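import Groth.Agent.L16.RDerSerre.Main
import Groth.Agent.L16.RelExt.Coherence
import Groth.Agent.L16.CohClosedPush
import Groth.Agent.L16.ExtZSh.QCoh
import Groth.Agent.L16.AffineBC.Pullback
import Groth.Agent.L22.ExtSh.DualSheaf
import Groth.Agent.L17.QCohExtension
import Groth.Agent.L16.Rees.RelVanish
import Groth.Agent.L10.WSerreLib
import Groth.Prelude.Def_WeakSerre

/-!
# `R Hom(O_Z, -)` preserves quasi-coherent and coherent cohomology
-/

set_option autoImplicit false
set_option backward.isDefEq.respectTransparency false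
set_option linter.style.haveILetI false
universe u
set_option linter.unusedSectionVars false
attribute [local instance] HasDerivedCategory.standard

open CategoryTheory CategoryTheory.Limits AlgebraicGeometry

noncomputable section

namespace Groth.L16.RDerSerre

open Groth.L16.HomSh (homModF)

variable {Z X : Scheme.{u}}

theorem isThick_isQCoh : Groth.L17.SSClass.IsThick fun M : X.Modules => Coh.IsQCoh M where
  zero _ h := Groth.L29.DC.isQCoh_of_isZero h
  iso e h := Groth.L29.DC.isQCoh_of_iso' e h
  ker φ h₁ h₂ := Groth.L29.DC.isQCoh_kernel' φ h₁ h₂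
  coker φ h₁ h₂ := Groth.L29.DC.isQCoh_cokernel' φ h₁ h₂
  ext S hS h₁ h₃ := Groth.L17.QCohExtension.isQCoh_extension S hS h₁ h₃

theorem isWeakSerre_of_isThick {P : ObjectProperty X.Modules} (h : Groth.L17.SSClass.IsThick P) :
    WSerre.IsWeakSerre P :=
  haveI : P.IsClosedUnderIsomorphisms := ⟨fun e hX => h.iso e hX⟩
  haveI : P.ContainsZero := ⟨⊥_ X.Modules, initialIsInitial.isZero, h.zero _ initialIsInitial.isZero⟩
  haveI : P.IsClosedUnderKernels := ⟨fun _ hA => by
    cases hA with
    | of_isLimit f k hk hf =>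
      exact h.iso ((kernelIsKernel f).conePointUniqueUpToIso hk) (h.ker f hf.1 hf.2)⟩
  haveI : P.IsClosedUnderCokernels := ⟨fun _ hA => by
    cases hA with
    | of_isColimit f k hk hf =>
      exact h.iso ((cokernelIsCokernel f).coconePointUniqueUpToIso hk) (h.coker f hf.1 hf.2)⟩
  haveI : P.IsClosedUnderExtensions := ⟨fun hS h₁ h₃ => h.ext _ hS h₁ h₃⟩
  ⟨⟩

variable (i : Z ⟶ X) [IsClosedImmersion i] [Dual3.HasHomO i]

/-- `Hom(O_Z, -)` is quasi-coherent when the argument is. -/
theorem reflects_of_push {M : Z.Modules} :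
    (Coh.IsQCoh ((Scheme.Modules.pushforward i).obj M) → Coh.IsQCoh M) ∧
      (IsLocallyNoetherian X → Coh.IsCoh ((Scheme.Modules.pushforward i).obj M) → Coh.IsCoh M) := by
  haveI := Groth.L17.ClosedPush.isIso_counit i
  let e : (Scheme.Modules.pullback i).obj ((Scheme.Modules.pushforward i).obj M) ≅ M :=
    asIso ((Scheme.Modules.pullbackPushforwardAdjunction i).counit.app M)
  refine ⟨fun h => ?_, fun _ h => ?_⟩
  · haveI := h
    exact Groth.L29.DC.isQCoh_of_iso' e (Groth.L16.AffineBC.isQCoh_pullback i _)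
  · haveI : IsLocallyNoetherian X := ‹_›
    haveI : IsLocallyNoetherian Z := LocallyOfFiniteType.isLocallyNoetherian i
    exact Groth.L16.RelExt.isThick_isCoh.iso e (Groth.L16.AffineBC.isCoh_pullback i h)

variable [IsLocallyNoetherian X] [EnoughInjectives X.Modules]

/-- `i_* O_Z`. -/
abbrev pushOne : X.Modules := (Scheme.Modules.pushforward i).obj (Coh.structureModule Z)

theorem isCoh_push_structure : Coh.IsCoh (pushOne i) := by
  haveI : IsLocallyNoetherian Z := LocallyOfFiniteType.isLocallyNoetherian i
  exact Groth.L16.CohClosedPush.isCoh_push i (Rees.RelVanish.isCoh_structureModule Z)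

theorem isQCoh_rightDerived : ∀ (p : ℕ) (M : X.Modules), Coh.IsQCoh M →
    Coh.IsQCoh (((Dual3.homO i).rightDerived p).obj M) := by
  haveI : PreservesFiniteLimits (Dual3.homO i) := inferInstance
  haveI : IsGrothendieckAbelian.{u} X.Modules := Groth.L00.Tensor.grothendieckAbelian_modules X
  intro p
  induction p using Nat.strong_induction_on with
  | _ p ih =>
  intro M hM
  haveI := hM
  obtain _ | k := p
  · haveI := Groth.L16.HomSh.isQCoh_homMod (isCoh_push_structure i) M
    obtain ⟨κ⟩ := Groth.L22.DualSheaf.nonempty_homO_push i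
    exact Groth.L29.DC.isQCoh_of_iso' ((Dual3.homO i).rightDerivedZeroIsoSelf.app M).symm
      ((reflects_of_push i).1 (Groth.L29.DC.isQCoh_of_iso' (κ.app M).symm ‹_›))
  · obtain ⟨I, φ, hφ, hI, hIi⟩ := Groth.L29.InjSub.exists_mono_injective M
    haveI := hφ
    haveI := hI
    haveI := hIi
    let S : ShortComplex X.Modules := ShortComplex.mk φ (cokernel.π φ) (cokernel.condition φ)
    have hS : S.ShortExact := { exact := ShortComplex.exact_cokernel φ }
    have hQ : Coh.IsQCoh (cokernel φ) := Groth.L29.DC.isQCoh_cokernel' φ hM hI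
    obtain ⟨e⟩ := Groth.L28.LocCoh.nonempty_cokernel_iso (Dual3.homO i) (T := S) hS k
      ((Dual3.homO i).isZero_rightDerived_obj_injective_succ k I)
    exact Groth.L29.DC.isQCoh_of_iso' e
      (Groth.L29.DC.isQCoh_cokernel' _ (ih k (by omega) I hI) (ih k (by omega) _ hQ))

theorem isCoh_rightDerived (p : ℕ) (M : X.Modules) (hM : Coh.IsCoh M) :
    Coh.IsCoh (((Dual3.homO i).rightDerived p).obj M) := by
  haveI := Groth.L17.PushQCoh.hasInjectiveResolutions X
  haveI : HasInjectiveResolutions (ModSite.Mod X.sheaf) := ‹HasInjectiveResolutions X.Modules›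
  haveI := Groth.L17.Duality.hasSheafHom (pushOne i)
  haveI := Groth.L22.ExtSh.additive_homModF (pushOne i)
  haveI : PreservesFiniteColimits (Scheme.Modules.pushforward i) :=
    haveI : (Scheme.Modules.pushforward i).IsLeftAdjoint := (Dual3.homOAdj i).isLeftAdjoint
    inferInstance
  haveI : (Scheme.Modules.pushforward i).IsRightAdjoint :=
    (Scheme.Modules.pullbackPushforwardAdjunction i).isRightAdjoint
  haveI : PreservesFiniteLimits (Scheme.Modules.pushforward i) := inferInstance
  haveI : (Scheme.Modules.pushforward i).Additive := Groth.L17.PushQCoh.additive_push i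
  refine (reflects_of_push i).2 inferInstance ?_
  obtain ⟨κ⟩ := Groth.L22.DualSheaf.nonempty_homO_push i
  obtain ⟨e⟩ := Groth.L22.ExtSh.nonempty_extSh_iso (pushOne i) M p
  let I := injectiveResolution M
  let J := ((Dual3.homO i).mapHomologicalComplex _).obj I.cocomplex
  refine Groth.L16.RelExt.isThick_isCoh.iso (e ≪≫ I.isoRightDerivedObj (homModF (pushOne i)) p ≪≫
    (HomologicalComplex.homologyFunctor X.Modules (ComplexShape.up ℕ) p).mapIso
      ((NatIso.mapHomologicalComplex κ.symm (ComplexShape.up ℕ)).app I.cocomplex) ≪≫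
    (J.sc p).mapHomologyIso (Scheme.Modules.pushforward i) ≪≫
      (Scheme.Modules.pushforward i).mapIso (I.isoRightDerivedObj (Dual3.homO i) p).symm)
    (Groth.L22.ExtSh.isCoh_extSh (isCoh_push_structure i) hM p)

/-- A class of modules stable under `R Hom(O_Z, -)` gives one of complexes. -/
theorem homology_RHomOPlus {P : ObjectProperty X.Modules} {P' : ObjectProperty Z.Modules}
    (hP' : Groth.L17.SSClass.IsThick P') (h : ∀ p M, P M → P' (((Dual3.homO i).rightDerived p).obj M))
    (K : DerivedCategory.Plus X.Modules) (hK : ∀ q, P ((DerivedCategory.homologyFunctor X.Modules q).obj K.obj))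
    (n : ℤ) : P' ((DerivedCategory.homologyFunctor Z.Modules n).obj ((Dual3.RHomOPlus i).obj K).obj) := by
  haveI := isWeakSerre_of_isThick hP'
  haveI : P'.IsClosedUnderIsomorphisms := ⟨fun e hX => hP'.iso e hX⟩
  exact prop_homology (Dual3.homO i) P' hP'.zero
    (fun T hT a b c d => Groth.L10.WSerreLib.prop_middle P' T hT a b c d) K (fun p q => h p _ (hK q)) n

end Groth.L16.RDerSerre
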