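import Groth.Agent.L17.GrothSS
import Groth.Agent.L17.RightDerivedPlus
import Groth.Agent.L10.SpSeq.Serre

/-!
# Hyperderived functors with values in a weak Serre class
-/

set_option autoImplicit false
set_option backward.isDefEq.respectTransparency false
universe w w' v u v' u'

open CategoryTheory CategoryTheory.Limits CategoryTheory.Triangulated
open Groth.L17 Groth.L17.GrothSS

namespace Groth.L16.RDerSerre

variable {C : Type u} [Category.{v} C] [Abelian C] [HasDerivedCategory.{w} C] [EnoughInjectives C]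
  {D : Type u'} [Category.{v'} D] [Abelian D] (S : C ⥤ D) [S.Additive]
  (P : ObjectProperty D) [P.IsClosedUnderIsomorphisms] (h0 : ∀ Z : D, IsZero Z → P Z)
  (hP : ∀ T : ComposableArrows D 4, T.Exact → P (T.obj 0) → P (T.obj 1) → P (T.obj 3) → P (T.obj 4) → P (T.obj 2))

include h0 hP in
/-- `H^n(RS X)` lies in `P` as soon as all `R^p S (H^q X)` do. -/
theorem prop_HH (X : DerivedCategory.Plus C) (a : ℤ) [X.IsGE a]
    (h : ∀ (p : ℕ) (q : ℤ), P ((S.rightDerived p).obj ((DerivedCategory.Plus.homologyFunctor C q).obj X)))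
    (n : ℤ) : P ((HH S n).obj X) := by
  let Y := specObj S X
  -- the slices
  have hslice : ∀ n q : ℤ, P (SpecObj.Hij Y n (SpecObj.coe_le_succ q)) := fun n q => by
    obtain ⟨e⟩ := nonempty_slice_iso S X n q
    refine P.prop_of_iso (e ≪≫ hhSingleShiftIso S _ q n (n - q) (by omega)).symm ?_
    by_cases hq : 0 ≤ n - q
    · obtain ⟨p, hp⟩ := Int.eq_ofNat_of_zero_le hq
      rw [hp]
      exact P.prop_of_iso (hhSingleZeroIso S _ p).symm (h p q)
    · exact h0 _ (isZero_HH_of_isGE S _ 0 _ (by omega))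
  have htail : ∀ (m q : ℤ), m < q → IsZero (SpecObj.Hij Y m (le_top : (q : EInt) ≤ ⊤)) := fun m q hmq => by
    have : (((DerivedCategory.Plus.TStructure.t).eTruncGE.obj (q : EInt)).obj
        (((DerivedCategory.Plus.TStructure.t (C := C)).eTruncLT.obj ⊤).obj X)).IsGE q :=
      (DerivedCategory.Plus.TStructure.t).isGE_eTruncGE_obj_obj q _ le_rfl _
    exact @isZero_HH_of_isGE _ _ _ _ _ _ _ _ S _ _ q this m hmq
  have key : ∀ (k : ℕ) (m q : ℤ), (m + 1 - q).toNat ≤ k → P (SpecObj.Hij Y m (le_top : (q : EInt) ≤ ⊤)) := by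
    intro k
    induction k with
    | zero => exact fun m q hk => h0 _ (htail m q (by omega))
    | succ k ih =>
      intro m q hk
      let f := homOfLE (SpecObj.coe_le_succ q)
      let g := homOfLE (le_top : ((q + 1 : ℤ) : EInt) ≤ ⊤)
      let fg := homOfLE (le_top : (q : EInt) ≤ ⊤)
      have hf : f ≫ g = fg := Subsingleton.elim _ _
      exact Groth.L10.SpSeqSerre.p_five P hP _ _ _ _ _ _ _
        (Y.exact₁ f g fg hf (m - 1) m (by omega)) (Y.exact₂ f g fg hf m)
        (Y.exact₃ f g fg hf m (m + 1) rfl)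
        (ih (m - 1) (q + 1) (by omega)) (hslice m q) (ih m (q + 1) (by omega)) (hslice (m + 1) q)
  let f := homOfLE (bot_le : ⊥ ≤ (a : EInt))
  let g := homOfLE (le_top : (a : EInt) ≤ ⊤)
  let fg := homOfLE (bot_le : ⊥ ≤ (⊤ : EInt))
  have hf : f ≫ g = fg := Subsingleton.elim _ _
  have hz : ∀ m, IsZero ((Y.H m).obj (ComposableArrows.mk₁ f)) := fun m =>
    (HH S m).map_isZero (((DerivedCategory.Plus.TStructure.t).eTruncGE.obj ⊥).map_isZero
      ((DerivedCategory.Plus.TStructure.t).isZero_eTruncLT_obj_obj X a (a : EInt) le_rfl))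
  refine P.prop_of_iso (topIso S X n).symm ?_
  have hm : Mono ((Y.H n).map (ComposableArrows.twoδ₁Toδ₀ f g fg hf)) :=
    (Y.exact₂ f g fg hf n).mono_g ((hz n).eq_of_src _ _)
  have he : Epi ((Y.H n).map (ComposableArrows.twoδ₁Toδ₀ f g fg hf)) :=
    (Y.exact₃ f g fg hf n (n + 1) rfl).epi_f ((hz (n + 1)).eq_of_tgt _ _)
  have := isIso_of_mono_of_epi ((Y.H n).map (ComposableArrows.twoδ₁Toδ₀ f g fg hf))
  exact P.prop_of_iso (asIso ((Y.H n).map (ComposableArrows.twoδ₁Toδ₀ f g fg hf))).symm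
    (key ((n + 1 - a).toNat) n a le_rfl)

variable [HasDerivedCategory.{w'} D]

include h0 hP in
/-- The same for `rightDerivedFunctorPlus`. -/
theorem prop_homology (X : DerivedCategory.Plus C)
    (h : ∀ (p : ℕ) (q : ℤ), P ((S.rightDerived p).obj ((DerivedCategory.homologyFunctor C q).obj X.obj)))
    (n : ℤ) : P ((DerivedCategory.homologyFunctor D n).obj (S.rightDerivedFunctorPlus.obj X).obj) := by
  obtain ⟨a, ha⟩ := X.property
  haveI : X.IsGE a := (DerivedCategory.Plus.isGE_ι_obj_iff X a).1 ha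
  exact P.prop_of_iso ((homologyRightDerivedPlusIso S n).app X).symm (prop_HH S P h0 hP X a h n)

end Groth.L16.RDerSerre
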